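import Mathlib.Data.Matrix.Basic
import Mathlib.LinearAlgebra.Matrix.Trace
import Mathlib.Algebra.Field.ZMod
import Mathlib.Tactic

/-!
# The representation of an extraspecial 2-group of plus type over the field with three elements
-/

set_option autoImplicit false

namespace Cfsg.Agent.Lib.LA5.Clifford

open Matrix

variable {n : ℕ}

/-- The hyperbolic space. -/
abbrev Sp2 (n : ℕ) := (Fin n → ZMod 2) × (Fin n → ZMod 2)

/-- The sign character. -/
def sgn (x : ZMod 2) : ZMod 3 := if x = 0 then 1 else -1

theorem sgn_zero : sgn 0 = 1 := rfl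

theorem sgn_add : ∀ x y : ZMod 2, sgn (x + y) = sgn x * sgn y := by decide

theorem sgn_inj : ∀ x y : ZMod 2, sgn x = sgn y → x = y := by decide

theorem sgn_mul_self : ∀ x : ZMod 2, sgn x * sgn x = 1 := by decide

theorem exists_sgn : ∀ c : ZMod 3, c ≠ 0 → ∃ s, sgn s = c := by decide

theorem add_self2 : ∀ x : ZMod 2, x + x = 0 := by decide

/-- The cocycle. -/
def coc (u v : Sp2 n) : ZMod 2 := v.2 ⬝ᵥ u.1

theorem coc_add_left (u u' v : Sp2 n) : coc (u + u') v = coc u v + coc u' v := dotProduct_add _ _ _

theorem coc_add_right (u v v' : Sp2 n) : coc u (v + v') = coc u v + coc u v' := add_dotProduct _ _ _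

theorem coc_zero_left (v : Sp2 n) : coc 0 v = 0 := dotProduct_zero _

theorem sp_add_self (u : Sp2 n) : u + u = 0 :=
  Prod.ext (funext fun _ => add_self2 _) (funext fun _ => add_self2 _)

/-- The operator of a vector. -/
def mat (u : Sp2 n) : Matrix (Fin n → ZMod 2) (Fin n → ZMod 2) (ZMod 3) :=
  fun x y => if y = x + u.1 then sgn (u.2 ⬝ᵥ x) else 0

theorem mat_zero : mat (0 : Sp2 n) = 1 := by
  ext x y
  rcases eq_or_ne y x with rfl | h
  · simp [mat, sgn_zero]
  · simp [mat, h, h.symm]

theorem mat_mul (u v : Sp2 n) : mat u * mat v = sgn (coc u v) • mat (u + v) := by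
  ext x z
  rw [Matrix.mul_apply, Finset.sum_eq_single (x + u.1) (fun y _ hy => by simp [mat, hy]) (by simp)]
  simp only [mat, Prod.fst_add, Prod.snd_add, Matrix.smul_apply, smul_eq_mul, coc, if_pos]
  by_cases hz : z = x + u.1 + v.1
  · rw [if_pos hz, if_pos (hz.trans (add_assoc _ _ _)), add_dotProduct, dotProduct_add, sgn_add, sgn_add]
    ring
  · rw [if_neg hz, if_neg (fun h => hz (h.trans (add_assoc _ _ _).symm)), mul_zero, mul_zero]

theorem mat_sq (u : Sp2 n) : mat u * mat u = sgn (coc u u) • (1 : Matrix _ _ (ZMod 3)) := by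
  rw [mat_mul, sp_add_self, mat_zero]

theorem trace_mat {u : Sp2 n} (hu : u ≠ 0) : (mat u).trace = 0 := by
  rw [Matrix.trace]
  by_cases ha : u.1 = 0
  · obtain ⟨i, hi⟩ : ∃ i, u.2 i ≠ 0 := Function.ne_iff.1 (fun hb => hu (Prod.ext ha hb))
    have hi1 : u.2 i = 1 := (show ∀ x : ZMod 2, x ≠ 0 → x = 1 by decide) _ hi
    have key : ∑ x, (mat u).diag x = -∑ x, (mat u).diag x := by
      rw [← Finset.sum_neg_distrib]
      refine Fintype.sum_equiv (Equiv.addRight (Pi.single i 1)) _ _ fun x => ?_
      simp [mat, ha, dotProduct_add, sgn_add, hi1, show sgn 1 = -1 from rfl]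
    exact (show ∀ c : ZMod 3, c = -c → c = 0 by decide) _ key
  · refine Finset.sum_eq_zero fun x _ => ?_
    simp [mat, ha]

theorem mat_ne_zero (u : Sp2 n) : mat u ≠ 0 := by
  intro h
  have h1 := congrFun (congrFun h 0) (0 + u.1)
  simp [mat, sgn_zero] at h1

theorem mat_smul_inj {u v : Sp2 n} {s t : ZMod 2} (h : sgn s • mat u = sgn t • mat v) : u = v ∧ s = t := by
  have h1 : mat (u + v) = sgn (coc v v + coc u v + t + s) • (1 : Matrix _ _ (ZMod 3)) := by
    have h2 := congrArg (fun X => (sgn s * sgn (coc u v)) • (X * mat v)) h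
    simp only [smul_mul_assoc, mat_mul, mat_sq, smul_smul, sp_add_self, mat_zero] at h2
    rw [show sgn s * sgn (coc u v) * (sgn s * sgn (coc u v)) = 1 by
      rw [← sgn_add, sgn_mul_self], one_smul] at h2
    rw [h2, sgn_add, sgn_add, sgn_add]
    congr 1
    ring
  have huv : u = v := by
    by_contra hne
    have hne' : u + v ≠ 0 := fun h0 => hne (by
      calc u = u + (v + v) := by rw [sp_add_self, add_zero]
        _ = v := by rw [← add_assoc, h0, zero_add])
    have h3 := congrArg Matrix.trace h1
    rw [trace_mat hne', Matrix.trace_smul, Matrix.trace_one, smul_eq_mul] at h3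
    have hcard : ((Fintype.card (Fin n → ZMod 2) : ℕ) : ZMod 3) ≠ 0 := by
      rw [Fintype.card_fun, ZMod.card, Fintype.card_fin, Nat.cast_pow]
      exact pow_ne_zero _ (by decide)
    rcases mul_eq_zero.1 h3.symm with h4 | h4
    · exact (show ∀ x : ZMod 2, sgn x ≠ 0 by decide) _ h4
    · exact hcard h4
  subst huv
  refine ⟨rfl, sgn_inj _ _ ?_⟩
  obtain ⟨x, y, hxy⟩ : ∃ x y, mat u x y ≠ 0 := by
    by_contra hall
    push Not at hall
    exact mat_ne_zero u (Matrix.ext hall)
  exact mul_right_cancel₀ hxy (congrFun (congrFun h x) y)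

/-- Only scalars commute with all the operators. -/
theorem eq_scalar (B : Matrix (Fin n → ZMod 2) (Fin n → ZMod 2) (ZMod 3))
    (hB : ∀ u : Sp2 n, B * mat u = mat u * B) : B = B 0 0 • 1 := by
  have hz : ∀ (b : Fin n → ZMod 2) x y, B x y * sgn (b ⬝ᵥ y) = sgn (b ⬝ᵥ x) * B x y := by
    intro b x y
    have h := congrFun (congrFun (hB (0, b)) x) y
    rw [Matrix.mul_apply, Matrix.mul_apply,
      Finset.sum_eq_single y (fun w _ hw => by simp [mat, hw.symm]) (by simp),
      Finset.sum_eq_single x (fun w _ hw => by simp [mat, hw]) (by simp)] at h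
    simpa [mat] using h
  have hd : ∀ a : Fin n → ZMod 2, B a a = B 0 0 := by
    intro a
    have h := congrFun (congrFun (hB (a, 0)) 0) a
    rw [Matrix.mul_apply, Matrix.mul_apply,
      Finset.sum_eq_single 0 (fun w _ hw => by simp [mat, hw]) (by simp),
      Finset.sum_eq_single a (fun w _ hw => by simp [mat, hw]) (by simp)] at h
    simpa [mat, sgn_zero] using h.symm
  ext x y
  rcases eq_or_ne x y with rfl | hne
  · simp [hd x]
  · obtain ⟨i, hi⟩ := Function.ne_iff.1 hne
    have h := hz (Pi.single i 1) x y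
    simp only [single_dotProduct, one_mul] at h
    rw [Matrix.smul_apply, Matrix.one_apply_ne hne, smul_zero]
    revert h hi
    generalize B x y = c
    generalize x i = s
    generalize y i = t
    revert c s t
    decide

/-- A subspace invariant under all the operators is trivial or everything. -/
theorem irreducible {v : (Fin n → ZMod 2) → ZMod 3} (hv : v ≠ 0)
    {B : Matrix (Fin n → ZMod 2) (Fin n → ZMod 2) (ZMod 3)} (hB : ∀ u : Sp2 n, B *ᵥ (mat u *ᵥ v) = 0) : B = 0 := by
  obtain ⟨a, ha⟩ := Function.ne_iff.1 hv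
  have hdelta : ∀ c : Fin n → ZMod 2, ∀ x, B x c = 0 := by
    intro c x
    have hsum : ∀ z, ∑ b, sgn (b ⬝ᵥ c) * (mat (a + c, b) *ᵥ v) z
        = if z = c then (2 : ZMod 3) ^ n * v a else 0 := by
      intro z
      have hm : ∀ b, (mat (a + c, b) *ᵥ v) z = sgn (b ⬝ᵥ z) * v (z + (a + c)) := fun b => by
        rw [Matrix.mulVec, dotProduct, Finset.sum_eq_single (z + (a + c)) (fun w _ hw => by simp [mat, hw]) (by simp)]
        simp [mat]
      simp only [hm, ← mul_assoc, ← sgn_add, ← dotProduct_add, ← Finset.sum_mul]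
      rcases eq_or_ne z c with rfl | hzc
      · rw [if_pos rfl, show z + (a + z) = a by rw [← add_assoc, add_comm z a, add_assoc,
          (funext fun _ => add_self2 _ : z + z = 0), add_zero], (funext fun _ => add_self2 _ : z + z = 0)]
        simp [sgn_zero]
      · rw [if_neg hzc]
        have hne : c + z ≠ 0 := fun h0 => hzc (funext fun i => by
          have h1 := congrFun h0 i
          revert h1
          simp only [Pi.add_apply, Pi.zero_apply]
          generalize c i = s
          generalize z i = t
          revert s t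
          decide)
        obtain ⟨i, hi⟩ := Function.ne_iff.1 hne
        have hi1 : (c + z) i = 1 := (show ∀ x : ZMod 2, x ≠ 0 → x = 1 by decide) _ hi
        have key : ∑ b, sgn (b ⬝ᵥ (c + z)) = -∑ b, sgn (b ⬝ᵥ (c + z)) := by
          rw [← Finset.sum_neg_distrib]
          refine Fintype.sum_equiv (Equiv.addRight (Pi.single i 1)) _ _ fun b => ?_
          simp only [Equiv.coe_addRight, add_dotProduct, sgn_add, single_dotProduct, one_mul, hi1]
          rw [show sgn 1 = -1 from rfl]; ring
        rw [(show ∀ c : ZMod 3, c = -c → c = 0 by decide) _ key, zero_mul]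
    have h1 : ∑ b, sgn (b ⬝ᵥ c) * (B *ᵥ (mat (a + c, b) *ᵥ v)) x = 0 := by simp [hB]
    have h2 : ∑ b, sgn (b ⬝ᵥ c) * (B *ᵥ (mat (a + c, b) *ᵥ v)) x = B x c * ((2 : ZMod 3) ^ n * v a) := by
      simp only [Matrix.mulVec, dotProduct, Finset.mul_sum]
      rw [Finset.sum_comm]
      have h3 : ∀ w, ∑ b, sgn (b ⬝ᵥ c) * (B x w * ∑ y, mat (a + c, b) w y * v y)
          = B x w * (if w = c then (2 : ZMod 3) ^ n * v a else 0) := by
        intro w
        rw [← hsum w, Finset.mul_sum]
        exact Finset.sum_congr rfl fun b _ => by simp only [Matrix.mulVec, dotProduct]; ring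
      simp only [dotProduct, Finset.mul_sum] at h3
      rw [Finset.sum_congr rfl fun w _ => h3 w]
      simp
    rcases mul_eq_zero.1 (h2.symm.trans h1) with h | h
    · exact h
    · rcases mul_eq_zero.1 h with h | h
      · exact absurd h (pow_ne_zero _ (by decide))
      · exact absurd h ha
  exact Matrix.ext fun x c => hdelta c x

/-- An isometry of the quadratic form is realised by conjugation. -/
theorem exists_intertwiner (t : Sp2 n →+ Sp2 n) (ht : ∀ u, coc (t u) (t u) = coc u u) :
    ∃ A : (Matrix (Fin n → ZMod 2) (Fin n → ZMod 2) (ZMod 3))ˣ, ∀ u, ∃ s,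
      (A : Matrix _ _ (ZMod 3)) * mat u = sgn s • (mat (t u) * (A : Matrix _ _ (ZMod 3))) := by
  -- symmetric difference of the two cocycles
  let D : Sp2 n → Sp2 n → ZMod 2 := fun u v => coc (t u) (t v) + coc u v
  have hDl : ∀ u u' v, D (u + u') v = D u v + D u' v := fun u u' v => by
    simp only [D, map_add, coc_add_left]; ring
  have hDr : ∀ u v v', D u (v + v') = D u v + D u v' := fun u v v' => by
    simp only [D, map_add, coc_add_right]; ring
  have hD0 : ∀ u, D u u = 0 := fun u => by simp only [D, ht, add_self2]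
  have hDs : ∀ u v, D u v = D v u := fun u v => by
    have h := hD0 (u + v)
    rw [hDl, hDr, hDr, hD0, hD0, zero_add, add_zero] at h
    exact (show ∀ x y : ZMod 2, x + y = 0 → x = y by decide) _ _ h
  -- a quadratic function with that polarisation
  obtain ⟨f, hf⟩ : ∃ f : Sp2 n → ZMod 2, ∀ u v, f (u + v) = f u + f v + D u v := by
    let b : Fin n ⊕ Fin n → Sp2 n := Sum.elim (fun i => (Pi.single i 1, 0)) (fun i => (0, Pi.single i 1))
    let co : Sp2 n → Fin n ⊕ Fin n → ZMod 2 := fun u => Sum.elim u.1 u.2
    let e : Fin n ⊕ Fin n → ℕ := fun i => Sum.elim (fun i => i.val) (fun i => n + i.val) i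
    have he : Function.Injective e := by
      rintro (i | i) (j | j) h <;> simp [e] at h
      · rw [Fin.ext h]
      · omega
      · omega
      · rw [Fin.ext h]
    refine ⟨fun u => ∑ i, ∑ j, if e i < e j then co u i * co u j * D (b i) (b j) else 0, fun u v => ?_⟩
    have hexp : ∀ w, ∀ L : Sp2 n →+ ZMod 2, L w = ∑ i, co w i * L (b i) := by
      intro w L
      have hw : w = ∑ i, co w i • b i := by
        rw [Fintype.sum_sum_type]
        refine Prod.ext ?_ ?_ <;> funext k <;>
          simp [co, b, Prod.fst_sum, Prod.snd_sum, Finset.sum_apply, Pi.single_apply]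
      conv_lhs => rw [hw, map_sum]
      exact Finset.sum_congr rfl fun i _ => by rw [ZMod.map_smul, smul_eq_mul]
    have hco : ∀ i, co (u + v) i = co u i + co v i := fun i => by cases i <;> rfl
    have hduv : D u v = ∑ i, ∑ j, co u i * (co v j * D (b i) (b j)) := by
      refine (hexp u (AddMonoidHom.mk' (fun w => D w v) (fun _ _ => hDl _ _ _))).trans ?_
      refine Finset.sum_congr rfl fun i _ => ?_
      rw [← Finset.mul_sum]
      exact congrArg _ (hexp v (AddMonoidHom.mk' (fun w => D (b i) w) (fun _ _ => hDr _ _ _)))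
    have hswap : ∑ i, ∑ j, (if e i < e j then co v i * co u j * D (b i) (b j) else 0)
        = ∑ i, ∑ j, (if e j < e i then co u i * co v j * D (b i) (b j) else 0) := by
      rw [Finset.sum_comm]
      refine Finset.sum_congr rfl fun i _ => Finset.sum_congr rfl fun j _ => ?_
      split_ifs
      · rw [hDs]; ring
      · rfl
    rw [hduv]
    simp only [hco, add_mul, mul_add, ← Finset.sum_add_distrib]
    have key : ∀ i j, (if e i < e j then co u i * co u j * D (b i) (b j) + co v i * co u j * D (b i) (b j) +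
        (co u i * co v j * D (b i) (b j) + co v i * co v j * D (b i) (b j)) else 0)
        = (if e i < e j then co u i * co u j * D (b i) (b j) else 0) + (if e i < e j then co v i * co v j * D (b i) (b j) else 0)
          + ((if e i < e j then co v i * co u j * D (b i) (b j) else 0) + (if e i < e j then co u i * co v j * D (b i) (b j) else 0)) := by
      intro i j; split_ifs <;> ring
    simp only [key, Finset.sum_add_distrib, hswap]
    congr 1
    simp only [← Finset.sum_add_distrib]
    refine Finset.sum_congr rfl fun i _ => Finset.sum_congr rfl fun j _ => ?_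
    rcases lt_trichotomy (e i) (e j) with h | h | h
    · rw [if_neg h.not_gt, if_pos h, zero_add, mul_assoc]
    · rw [if_neg (by omega), if_neg (by omega), he h, hD0]; simp
    · rw [if_pos h, if_neg h.not_gt, add_zero, mul_assoc]
  let T : Sp2 n → Matrix (Fin n → ZMod 2) (Fin n → ZMod 2) (ZMod 3) := fun u => sgn (f u) • mat (t u)
  have hTmul : ∀ u v, T u * T v = sgn (coc u v) • T (u + v) := by
    intro u v
    simp only [T, smul_mul_assoc, mul_smul_comm, smul_smul, mat_mul, map_add, hf, D, ← sgn_add]
    congr 2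
    generalize coc u v = B
    generalize coc (t u) (t v) = B'
    generalize f u = F
    generalize f v = F'
    revert B B' F F'
    decide
  let Mi : Sp2 n → Matrix (Fin n → ZMod 2) (Fin n → ZMod 2) (ZMod 3) := fun u => sgn (coc u u) • mat u
  let Av : Matrix (Fin n → ZMod 2) (Fin n → ZMod 2) (ZMod 3) → Matrix (Fin n → ZMod 2) (Fin n → ZMod 2) (ZMod 3) :=
    fun Y => ∑ u, T u * Y * Mi u
  have hAv : ∀ Y v, Av Y * mat v = T v * Av Y := by
    intro Y v
    simp only [Av, Finset.sum_mul, Finset.mul_sum]
    refine Fintype.sum_equiv (Equiv.addLeft v) _ _ fun u => ?_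
    simp only [Equiv.coe_addLeft, ← mul_assoc, hTmul, Mi, smul_mul_assoc, mul_smul_comm, smul_smul]
    rw [mul_assoc (T u * Y), mat_mul, mul_smul_comm, smul_smul, ← add_assoc, sp_add_self, zero_add, ← sgn_add,
      ← sgn_add, add_comm v u]
    congr 1
    refine congrArg sgn ?_
    simp only [coc_add_left, coc_add_right]
    generalize coc u u = A
    generalize coc u v = B
    generalize coc v u = C
    generalize coc v v = D'
    revert A B C D'
    decide
  obtain ⟨Y, hY⟩ : ∃ Y, Av Y ≠ 0 := by
    by_contra hall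
    push Not at hall
    obtain ⟨r, i, hri⟩ : ∃ r i, T 0 r i ≠ 0 := by
      by_contra h0
      push Not at h0
      refine mat_ne_zero (t 0) (Matrix.ext fun r i => ?_)
      rcases mul_eq_zero.1 (show sgn (f 0) * mat (t 0) r i = 0 from h0 r i) with h | h
      · exact absurd h ((show ∀ x : ZMod 2, sgn x ≠ 0 by decide) _)
      · exact h
    have h1 : ∀ j, ∑ u, T u r i * Mi u j j = 0 := by
      intro j
      have h := congrFun (congrFun (hall (Matrix.single i j 1)) r) j
      simp only [Av, Matrix.sum_apply, Matrix.zero_apply] at h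
      rw [← h]
      refine Finset.sum_congr rfl fun u _ => ?_
      rw [Matrix.mul_assoc, Matrix.mul_apply,
        Finset.sum_eq_single i (fun w _ hw => by simp [Matrix.single_mul_apply_of_ne, hw]) (by simp),
        Matrix.single_mul_apply_same, one_mul]
    have h2 : ∑ u, T u r i * (Mi u).trace = 0 := by
      simp only [Matrix.trace, Matrix.diag_apply, Finset.mul_sum]
      rw [Finset.sum_comm]
      exact Finset.sum_eq_zero fun j _ => h1 j
    rw [Finset.sum_eq_single 0 (fun u _ hu => by simp [Mi, trace_mat hu]) (by simp)] at h2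
    refine hri ((mul_eq_zero.1 h2).resolve_right ?_)
    simp only [Mi, coc_zero_left, sgn_zero, one_smul, mat_zero, Matrix.trace_one, Fintype.card_fun, ZMod.card,
      Fintype.card_fin, Nat.cast_pow]
    exact pow_ne_zero _ (by decide)
  have hdet : IsUnit (Av Y) := by
    rw [Matrix.isUnit_iff_isUnit_det, isUnit_iff_ne_zero]
    intro hd
    obtain ⟨v, hv, hv0⟩ := Matrix.exists_mulVec_eq_zero_iff.2 hd
    refine hY (irreducible hv fun u => ?_)
    rw [Matrix.mulVec_mulVec, hAv, ← Matrix.mulVec_mulVec, hv0, Matrix.mulVec_zero]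
  refine ⟨hdet.unit, fun u => ⟨f u, ?_⟩⟩
  rw [IsUnit.unit_spec, hAv Y u]
  simp only [T, smul_mul_assoc]

end Cfsg.Agent.Lib.LA5.Clifford
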